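import Cfsg.Agent.DS.Cl.Main

/-!
# N2, classical socles: a proper form of a star-simple ring is fixed by a field or graph automorphism (helper48)
-/

set_option autoImplicit false

namespace Cfsg.Agent.N2C.Cases

open Cfsg Cfsg.Agent.DS.Cl

section fld

variable {A : Type} [Ring A] [Finite A]

/-- a subfield -/
structure Fl (Z : Subring A) : Prop where
  comm : ∀ x ∈ Z, ∀ y ∈ Z, x * y = y * x
  unit : ∀ x ∈ Z, x ≠ 0 → IsUnit x

theorem Fl.isField [Nontrivial A] {Z : Subring A} (h : Fl Z) : IsField Z := by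
  let : CommRing Z := { (inferInstance : Ring Z) with mul_comm := fun x y => Subtype.ext (h.comm x x.2 y y.2) }
  have : NoZeroDivisors Z := ⟨fun {x y} hxy => by
    by_cases hx : x = 0
    · exact Or.inl hx
    · exact Or.inr (Subtype.ext ((h.unit x x.2 fun e => hx (Subtype.ext e)).mul_right_eq_zero.1
        (congrArg Subtype.val hxy)))⟩
  have : IsDomain Z := NoZeroDivisors.to_isDomain Z
  exact Finite.isField_of_domain Z

theorem Fl.card_pow [Nontrivial A] {Z : Subring A} (h : Fl Z) {p : ℕ} (hp : p.Prime) (h0 : (p : A) = 0) :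
    ∃ k, k ≠ 0 ∧ Nat.card Z = p ^ k ∧ ∀ x ∈ Z, x ^ p ^ k = x := by
  let := h.isField.toField
  have := Fintype.ofFinite Z
  have : CharP Z p := (CharP.charP_iff_prime_eq_zero hp).2 (Subtype.ext (by simpa using h0))
  obtain ⟨k, -, hk⟩ := FiniteField.card Z p
  refine ⟨k, k.ne_zero, by rw [Nat.card_eq_fintype_card, hk], fun x hx => ?_⟩
  have h1 := FiniteField.pow_card (⟨x, hx⟩ : Z)
  rw [hk] at h1
  exact congrArg Subtype.val h1

open Polynomial in
theorem Fl.card_le [Nontrivial A] {Z : Subring A} (h : Fl Z) {q : ℕ} (hq : 1 < q) (hx : ∀ x ∈ Z, x ^ q = x) :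
    Nat.card Z ≤ q := by
  let := h.isField.toField
  have := Fintype.ofFinite Z
  have h1 := card_le_degree_of_subset_roots (p := (X ^ q - X : Z[X])) (Z := Finset.univ) fun x _ => by
    rw [mem_roots (FiniteField.X_pow_card_sub_X_ne_zero Z hq), IsRoot, eval_sub, eval_pow, eval_X, sub_eq_zero]
    exact Subtype.ext (hx x x.2)
  rwa [FiniteField.X_pow_card_sub_X_natDegree_eq Z hq, Finset.card_univ, ← Nat.card_eq_fintype_card] at h1

theorem le_of_card {Z Z' : Subring A} (h : Z ≤ Z') (hc : Nat.card Z' ≤ Nat.card Z) : Z' ≤ Z :=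
  (Set.eq_of_subset_of_ncard_le (s := (Z : Set A)) (t := (Z' : Set A)) h hc).ge

theorem inv_mem_sub {Z : Subring A} {x : A} (hx : x ∈ Z) (hu : IsUnit x) : ∃ y ∈ Z, x * y = 1 := by
  obtain ⟨u, rfl⟩ := hu
  refine ⟨(u : A) ^ (orderOf u - 1), Z.pow_mem hx _, ?_⟩
  rw [← pow_succ', Nat.sub_add_cancel (orderOf_pos u), ← Units.val_pow_eq_pow_val, pow_orderOf_eq_one, Units.val_one]

end fld

section mu

variable {A : Type} [Ring A] {n : ℕ} {E : Fin n → Fin n → A}

theorem coef_mul' (h : MU0 E) (a b : A) (i j : Fin n) : coef E (a * b) i j = ∑ m, coef E a i m * coef E b m j := by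
  have h1 : ∀ m, coef E a i m * coef E b m j = ∑ k, E k i * a * E m m * b * E j k := fun m => by
    rw [show coef E b m j = ∑ k, E k m * b * E j k from rfl, Finset.mul_sum]
    exact Finset.sum_congr rfl fun k _ => by rw [← mul_assoc, ← mul_assoc, h.coef_mul]
  simp only [h1]
  rw [Finset.sum_comm]
  refine Finset.sum_congr rfl fun k _ => ?_
  rw [← Finset.sum_mul, ← Finset.sum_mul, ← Finset.mul_sum, h.sum, mul_one, ← mul_assoc]

theorem coef_add' (a b : A) (i j : Fin n) : coef E (a + b) i j = coef E a i j + coef E b i j := by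
  simp only [coef, mul_add, add_mul, Finset.sum_add_distrib]

theorem coef_neg' (a : A) (i j : Fin n) : coef E (-a) i j = -coef E a i j := by
  simp only [coef, mul_neg, neg_mul, Finset.sum_neg_distrib]

theorem coef_cen' (h : MU0 E) {c : A} (hc : c ∈ Subring.center A) (i j : Fin n) :
    coef E c i j = if i = j then c else 0 := by
  have h1 : ∀ k, E k i * c * E j k = c * if i = j then E k k else 0 := fun k => by
    rw [cen_comm hc, mul_assoc, h.mul]
  simp only [coef, h1]
  split_ifs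
  · rw [← Finset.mul_sum, h.sum, mul_one]
  · simp

end mu

variable {A : Type} [Ring A] [StarRing A]

/-- an endomorphism of the centre which commutes with `star` and fixes `D` -/
structure Sg (D : Subring A) (σ : A → A) : Prop where
  cen : ∀ c ∈ Subring.center A, σ c ∈ Subring.center A
  add : ∀ c ∈ Subring.center A, ∀ d ∈ Subring.center A, σ (c + d) = σ c + σ d
  mul : ∀ c ∈ Subring.center A, ∀ d ∈ Subring.center A, σ (c * d) = σ c * σ d
  st : ∀ c ∈ Subring.center A, σ (star c) = star (σ c)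
  fix : ∀ d ∈ D, σ d = d

theorem Sg.sum {D : Subring A} {σ : A → A} (h : Sg D σ) {ι : Type} (s : Finset ι) {f : ι → A}
    (hf : ∀ i, f i ∈ Subring.center A) : σ (∑ i ∈ s, f i) = ∑ i ∈ s, σ (f i) := by
  classical
  induction s using Finset.induction_on with
  | empty => simpa using h.fix 0 D.zero_mem
  | insert a s ha ih =>
    rw [Finset.sum_insert ha, Finset.sum_insert ha, h.add _ (hf a) _ (Subring.sum_mem _ fun i _ => hf i), ih]

theorem sg_pow [Nontrivial A] {p : ℕ} (hp : p.Prime) (h0 : (p : A) = 0) {k : ℕ} {D : Subring A}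
    (h : ∀ x ∈ D, x ^ p ^ k = x) : Sg D fun x => x ^ p ^ k := by
  have : Fact p.Prime := ⟨hp⟩
  have : CharP A p := (CharP.charP_iff_prime_eq_zero hp).2 h0
  exact ⟨fun c hc => Subring.pow_mem _ hc _, fun c _ d hd => add_pow_char_pow_of_commute p k (cen_comm hd c),
    fun c _ d hd => Commute.mul_pow (cen_comm hd c) _, fun c _ => (star_pow c _).symm, h⟩

variable [Finite A]

theorem fl_C0 (ss : SS A) {D : Subring A} (h : D ≤ C0 A) : Fl D :=
  ⟨fun x _ _ hy => cen_comm (h hy).1 x, fun _ hx => ss.isUnit_of_cen (h hx).1 (h hx).2⟩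

omit [Finite A] in
theorem eps_tr {ε c : A} (hε : Eps ε) (hc : c ∈ Subring.center A) :
    ε * c + star (ε * c) ∈ C0 A ∧ ε * (ε * c + star (ε * c)) = ε * c := by
  have h0 := Subring.mul_mem _ hε.cen hc
  refine ⟨⟨Subring.add_mem _ h0 (star_cen h0), by rw [star_add, star_star, add_comm]⟩, ?_⟩
  rw [mul_add, star_mul, ← mul_assoc, hε.idem, ← mul_assoc, ← hε.comm (star c), mul_assoc, hε.ms, mul_zero, add_zero]

/-- a star-closed subring of the centre without the split idempotents is a field -/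
theorem fl_of_not (ss : SS A) {D : Subring A} (hD : D ≤ Subring.center A) (hs : ∀ x ∈ D, star x ∈ D)
    (h : ∀ ε, Eps ε → ε ∉ D) : Fl D := by
  refine ⟨fun x _ _ hy => cen_comm (hD hy) x, fun x hx h0 => ?_⟩
  by_cases hε : ∃ ε : A, Eps ε
  · have key : ∀ ε : A, Eps ε → ε * x ≠ 0 := fun ε hε h1 => by
      have h2 : star ε * x = x := by rw [hε.star_eq, sub_mul, one_mul, h1, sub_zero]
      obtain ⟨h3, h4⟩ := eps_tr hε.st (hD hx)
      rw [h2] at h3 h4
      obtain ⟨y, hy, h5⟩ := inv_mem_sub (D.add_mem hx (hs x hx)) (ss.isUnit_of_cen h3.1 h3.2 fun e => h0 (by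
        rw [← h4, e, mul_zero]))
      refine h _ hε.st ?_
      rw [← mul_one (star ε), ← h5, ← mul_assoc, h4]
      exact D.mul_mem hx hy
    obtain ⟨ε, hε⟩ := hε
    obtain ⟨d, -, h1⟩ := ss.eps_inv hε (hD hx) (key ε hε)
    obtain ⟨d', -, h2⟩ := ss.eps_inv hε.st (hD hx) (key _ hε.st)
    have h3 : (d + d') * x = 1 := by rw [add_mul, h1, h2, hε.add]
    exact ⟨⟨x, d + d', by rw [← cen_comm (hD hx), h3], h3⟩, rfl⟩
  · exact ss.isUnit_of_not_eps hε (hD hx) h0

/-- the exchange of the two factors over a diagonal field -/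
theorem sg_swap (ss : SS A) {D : Subring A} (hD : D ≤ Subring.center A) (hs : ∀ x ∈ D, star x ∈ D) (hf : Fl D)
    (hc : Nat.card (C0 A) ≤ Nat.card D) {ε : A} (hε : Eps ε) : ∃ σ, Sg D σ ∧ σ ε ≠ ε := by
  have := ss.nontrivial
  have inj : ∀ η : A, Eps η → ∀ a ∈ D, ∀ b ∈ D, η * a = η * b → a = b := fun η hη a ha b hb e => by
    by_contra hne
    refine hη.ne_zero ((hf.unit _ (D.sub_mem ha hb) (sub_ne_zero.2 hne)).mul_left_eq_zero.1 ?_)
    rw [mul_sub, e, sub_self]
  have sur : ∀ η : A, Eps η → ∀ c, ∃ a ∈ D, c ∈ Subring.center A → η * a = η * c := fun η hη c => by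
    by_cases hcc : c ∈ Subring.center A
    swap
    · exact ⟨0, D.zero_mem, fun h => absurd h hcc⟩
    let f : D → C0 A := fun a => ⟨η * a + star (η * a), (eps_tr hη (hD a.2)).1⟩
    have h1 : Function.Injective f := fun a b e => Subtype.ext (inj η hη a a.2 b b.2 (by
      rw [← (eps_tr hη (hD a.2)).2, ← (eps_tr hη (hD b.2)).2]
      exact congrArg (fun x : C0 A => η * (x : A)) e))
    obtain ⟨a, ha⟩ := (h1.bijective_of_nat_card_le hc).2 ⟨_, (eps_tr hη hcc).1⟩
    refine ⟨a, a.2, fun _ => ?_⟩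
    rw [← (eps_tr hη (hD a.2)).2, ← (eps_tr hη hcc).2]
    exact congrArg (fun x : C0 A => η * (x : A)) ha
  choose r hr hr' using sur
  have radd : ∀ η (hη : Eps η), ∀ c ∈ Subring.center A, ∀ d ∈ Subring.center A,
      r η hη (c + d) = r η hη c + r η hη d := fun η hη c hc d hd =>
    inj η hη _ (hr _ _ _) _ (D.add_mem (hr _ _ _) (hr _ _ _)) (by
      rw [mul_add, hr' _ _ _ hc, hr' _ _ _ hd, hr' _ _ _ (Subring.add_mem _ hc hd), mul_add])
  have rmul : ∀ η (hη : Eps η), ∀ c ∈ Subring.center A, ∀ d ∈ Subring.center A,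
      r η hη (c * d) = r η hη c * r η hη d := fun η hη c hc d hd =>
    inj η hη _ (hr _ _ _) _ (D.mul_mem (hr _ _ _) (hr _ _ _)) (by
      rw [← mul_assoc, hr' _ _ _ hc, ← hη.comm c, mul_assoc, hr' _ _ _ hd, hr' _ _ _ (Subring.mul_mem _ hc hd),
        ← mul_assoc, ← mul_assoc, hη.comm c])
  have rfix : ∀ η (hη : Eps η), ∀ d ∈ D, r η hη d = d := fun η hη d hd =>
    inj η hη _ (hr _ _ _) _ hd (hr' _ _ _ (hD hd))
  have rst : ∀ η (hη : Eps η) η' (hη' : Eps η'), η' = star η → ∀ c ∈ Subring.center A,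
      r η' hη' (star c) = star (r η hη c) := fun η hη η' hη' e c hc =>
    inj η' hη' _ (hr _ _ _) _ (hs _ (hr _ _ _)) (by
      rw [hr' _ _ _ (star_cen hc), e, ← star_mul, ← star_mul, hη.comm, hη.comm, hr' _ _ _ hc])
  refine ⟨fun c => ε * r _ hε.st c + star ε * r _ hε c, ⟨fun c _ => Subring.add_mem _
    (Subring.mul_mem _ hε.cen (hD (hr _ _ _))) (Subring.mul_mem _ hε.st.cen (hD (hr _ _ _))), fun c hc d hd => ?_,
    fun c hc d hd => ?_, fun c hc => ?_, fun d hd => ?_⟩, fun e => ?_⟩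
  · rw [radd _ _ c hc d hd, radd _ _ c hc d hd, mul_add, mul_add]
    abel
  · have h1 : ∀ η η' : A, Eps η' → ∀ x y : A, η * x * (η' * y) = η * η' * (x * y) := fun η η' hη x y => by
      rw [mul_assoc, ← mul_assoc x, hη.comm, mul_assoc, mul_assoc]
    rw [rmul _ _ c hc d hd, rmul _ _ c hc d hd, add_mul, mul_add, mul_add, h1 _ _ hε, h1 _ _ hε, h1 _ _ hε.st,
      h1 _ _ hε.st, hε.idem, hε.st.idem, hε.ms, hε.sm, zero_mul, zero_mul, add_zero, zero_add]
  · rw [rst ε hε _ hε.st rfl c hc, rst _ hε.st ε hε (star_star ε).symm c hc, star_add, star_mul, star_mul, star_star,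
      hε.comm, hε.st.comm, add_comm]
  · rw [rfix _ _ d hd, rfix _ _ d hd, ← hε.split]
  · have h1 : r _ hε.st ε = 0 := inj _ hε.st _ (hr _ _ _) _ D.zero_mem (by rw [hr' _ _ _ hε.cen, hε.sm, mul_zero])
    have h2 := congrArg (ε * ·) e
    simp only [h1, mul_zero, zero_add, ← mul_assoc, hε.ms, zero_mul, hε.idem] at h2
    exact hε.ne_zero h2.symm

/-- Galois theory of the centre -/
theorem exists_sg (ss : SS A) {p : ℕ} (hp : p.Prime) (h0 : (p : A) = 0) {D : Subring A} (hD : D ≤ Subring.center A)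
    (hs : ∀ x ∈ D, star x ∈ D) (hne : ¬ Subring.center A ≤ D) : ∃ σ, Sg D σ ∧ ∃ c ∈ Subring.center A, σ c ≠ c := by
  have := ss.nontrivial
  by_contra hcon
  have H : ∀ σ, Sg D σ → ∀ c ∈ Subring.center A, σ c = c := fun σ hσ c hc =>
    not_not.1 fun h => hcon ⟨σ, hσ, c, hc, h⟩
  have : Fact p.Prime := ⟨hp⟩
  by_cases h1 : ∃ ε, Eps ε ∧ ε ∈ D
  · obtain ⟨ε, hε, h1⟩ := h1
    obtain ⟨k, hk, h2, h3⟩ := (fl_C0 ss (D := D ⊓ C0 A) inf_le_right).card_pow hp h0
    have s0 := sg_pow hp h0 h3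
    have hq : p ^ k ≠ 0 := pow_ne_zero _ hp.ne_zero
    have h4 : ∀ η, Eps η → η ∈ D → ∀ x ∈ D, (η * x) ^ p ^ k = η * x := fun η hη h5 x hx => by
      obtain ⟨h6, h7⟩ := eps_tr hη (hD hx)
      rw [← h7, Commute.mul_pow (hη.comm _).symm, h3 _ ⟨D.add_mem (D.mul_mem h5 hx) (hs _ (D.mul_mem h5 hx)), h6⟩,
        IsIdempotentElem.pow_eq hη.idem hq]
    have h5 := H _ (sg_pow hp h0 (D := D) (k := k) fun x hx => by
      have h6 := s0.add _ (Subring.mul_mem _ hε.cen (hD hx)) _ (Subring.mul_mem _ hε.st.cen (hD hx))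
      rwa [h4 _ hε h1 x hx, h4 _ hε.st (hs _ h1) x hx, ← hε.split] at h6)
    have h6 : C0 A ≤ D ⊓ C0 A := le_of_card inf_le_right (h2 ▸ (fl_C0 ss le_rfl).card_le
      (Nat.one_lt_pow hk hp.one_lt) fun x hx => h5 x hx.1)
    refine hne fun c hc => ?_
    obtain ⟨c₁, h₁, c₂, h₂, rfl⟩ := hε.cen_split hc
    exact D.add_mem (D.mul_mem h1 (h6 h₁).1) (D.mul_mem (hs _ h1) (h6 h₂).1)
  have hf := fl_of_not ss hD hs fun ε hε h => h1 ⟨ε, hε, h⟩
  obtain ⟨k, hk, h2, h3⟩ := hf.card_pow hp h0
  have h5 := H _ (sg_pow hp h0 h3)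
  by_cases hε : ∃ ε : A, Eps ε
  · obtain ⟨ε, hε⟩ := hε
    obtain ⟨σ, hσ, h6⟩ := sg_swap ss hD hs hf (h2 ▸ (fl_C0 ss le_rfl).card_le
      (Nat.one_lt_pow hk hp.one_lt) fun x hx => h5 x hx.1) hε
    exact h6 (H σ hσ ε hε.cen)
  · exact hne (le_of_card hD (h2 ▸ Fl.card_le ⟨fun x _ _ hy => cen_comm hy x, fun _ => ss.isUnit_of_not_eps hε⟩
      (Nat.one_lt_pow hk hp.one_lt) h5))

/-- **a proper form of `A` is fixed by a non-trivial automorphism** -/
theorem exists_aut (ss : SS A) {p : ℕ} (hp : p.Prime) (h0 : (p : A) = 0) {B : Subring A} {hs : ∀ x ∈ B, star x ∈ B}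
    (hB : SS (Blk.ofSubring B hs).T) (hgen : Subring.closure ((Subring.center A : Set A) ∪ B) = ⊤) (hne : B ≠ ⊤) :
    ∃ φ ∈ SAut A, φ ≠ 1 ∧ ∀ b ∈ B, φ b = b := by
  have := ss.nontrivial
  obtain ⟨n, E, hE, hEm, hEc⟩ := exists_mu_sub hB
  have hcB : ∀ b ∈ B, ∀ i j, coef E b i j ∈ B ⊓ Subring.center A := fun b hb i j =>
    ⟨coef_mem hEm hb i j, cen_of_comm hgen (hEc _ (coef_mem hEm hb i j) (hE.coef_comm b i j))⟩
  have hcc : ∀ c ∈ Subring.center A, ∀ i j, coef E c i j ∈ Subring.center A := fun c hc i j => by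
    rw [coef_cen' hE hc]
    split_ifs
    exacts [hc, Subring.zero_mem _]
  have hc : ∀ a i j, coef E a i j ∈ Subring.center A := fun a => by
    have ha : a ∈ Subring.closure ((Subring.center A : Set A) ∪ B) := hgen ▸ Subring.mem_top a
    induction ha using Subring.closure_induction with
    | mem x hx => exact hx.elim (hcc x) fun hx i j => (hcB x hx i j).2
    | zero => exact hcc 0 (Subring.zero_mem _)
    | one => exact hcc 1 (Subring.one_mem _)
    | add x y _ _ hx hy => exact fun i j => coef_add' x y i j ▸ Subring.add_mem _ (hx i j) (hy i j)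
    | neg x _ hx => exact fun i j => coef_neg' x i j ▸ Subring.neg_mem _ (hx i j)
    | mul x y _ _ hx hy =>
      exact fun i j => coef_mul' hE x y i j ▸ Subring.sum_mem _ fun m _ => Subring.mul_mem _ (hx i m) (hy m j)
  obtain ⟨σ, hσ, c, hcm, hcne⟩ := exists_sg ss hp h0 (D := B ⊓ Subring.center A) inf_le_right
    (fun x hx => ⟨hs x hx.1, star_cen hx.2⟩) fun h => hne (by
      rw [eq_top_iff, ← hgen, Subring.closure_le]
      exact Set.union_subset (fun x hx => (h hx).1) le_rfl)
  let g : A → A := fun a => ∑ i, ∑ j, σ (coef E a i j) * E i j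
  have gB : ∀ b ∈ B, g b = b := fun b hb => by
    simp only [g, fun i j => hσ.fix _ (hcB b hb i j)]
    exact (hE.expand b).symm
  have gC : ∀ c ∈ Subring.center A, g c = σ c := fun c hc => by
    have h1 : ∀ i j, σ (coef E c i j) * E i j = if i = j then σ c * E i i else 0 := fun i j => by
      rw [coef_cen' hE hc]
      split_ifs with e
      · rw [e]
      · rw [hσ.fix 0 (Subring.zero_mem _), zero_mul]
    simp only [g, h1, Finset.sum_ite_eq, Finset.mem_univ, if_true]
    rw [← Finset.mul_sum, hE.sum, mul_one]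
  let f : A →+* A :=
    { toFun := g
      map_one' := gB 1 B.one_mem
      map_zero' := gB 0 B.zero_mem
      map_add' := fun a b => by
        simp only [g, coef_add', hσ.add _ (hc _ _ _) _ (hc _ _ _), add_mul, Finset.sum_add_distrib]
      map_mul' := fun a b => by
        have h1 : ∀ i j k l, σ (coef E a i j) * E i j * (σ (coef E b k l) * E k l) =
            if j = k then σ (coef E a i j) * σ (coef E b j l) * E i l else 0 := fun i j k l => by
          rw [mul_assoc, ← mul_assoc (E i j), cen_comm (hσ.cen _ (hc b k l)), mul_assoc, hE.mul]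
          split_ifs with e
          · rw [e, mul_assoc]
          · rw [mul_zero, mul_zero]
        have h2 : ∀ i l, σ (coef E (a * b) i l) = ∑ j, σ (coef E a i j) * σ (coef E b j l) := fun i l => by
          rw [coef_mul' hE, hσ.sum _ fun m => Subring.mul_mem _ (hc _ _ _) (hc _ _ _)]
          exact Finset.sum_congr rfl fun m _ => hσ.mul _ (hc _ _ _) _ (hc _ _ _)
        have h3 : ∀ i j, σ (coef E a i j) * E i j * g b = ∑ l, σ (coef E a i j) * σ (coef E b j l) * E i l :=
          fun i j => by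
            simp only [g, Finset.mul_sum, h1]
            rw [Finset.sum_comm]
            simp only [Finset.sum_ite_eq, Finset.mem_univ, if_true]
        rw [show g a = ∑ i, ∑ j, σ (coef E a i j) * E i j from rfl]
        simp only [Finset.sum_mul, h3]
        simp only [g, h2, Finset.sum_mul]
        exact Finset.sum_congr rfl fun i _ => Finset.sum_comm }
  have hst : ∀ a, f (star a) = star (f a) := fun a => by
    have ha : a ∈ Subring.closure ((Subring.center A : Set A) ∪ B) := hgen ▸ Subring.mem_top a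
    induction ha using Subring.closure_induction with
    | mem x hx =>
      rcases hx with hx | hx
      · exact (gC _ (star_cen hx)).trans ((hσ.st x hx).trans (congrArg star (gC x hx).symm))
      · exact (gB _ (hs x hx)).trans (congrArg star (gB x hx).symm)
    | zero => simp
    | one => simp
    | add x y _ _ hx hy => rw [star_add, map_add, map_add, hx, hy, star_add]
    | neg x _ hx => rw [star_neg, map_neg, map_neg, hx, star_neg]
    | mul x y _ _ hx hy => rw [star_mul, map_mul, map_mul, hx, hy, star_mul]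
  have hinj : Function.Injective f := by
    rw [RingHom.injective_iff_ker_eq_bot]
    refine (ss.eq_bot_or_top (I := RingHom.ker f) (fun x hx a => Ideal.mul_mem_right a _ hx) fun x hx => ?_).resolve_right
      (RingHom.ker_ne_top f)
    rw [RingHom.mem_ker] at hx ⊢
    rw [hst, hx, star_zero]
  refine ⟨RingEquiv.ofBijective f ⟨hinj, Finite.surjective_of_injective hinj⟩, hst, fun e => hcne ?_, gB⟩
  exact (gC c hcm).symm.trans (DFunLike.congr_fun e c)

end Cfsg.Agent.N2C.Cases
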