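import Cfsg.Agent.N2.Cl.Defs
import Cfsg.Agent.N2.Cl.Cases.Gal
import Cfsg.Agent.TH.Cl.Cases.Div
import Cfsg.Agent.H912.KnownSplit

/-!
# N2, classical socles: Aschbacher's case division `BoxCases` (helper48)
-/

set_option autoImplicit false

namespace Cfsg.Agent.N2C

open Cfsg Cfsg.Agent.DS Cfsg.Agent.H936 Cfsg.Agent.DS.Cl Cfsg.Agent.DS.Cl.Main
open Cfsg.Agent.SB.Cl (ComSub)
open Cfsg.Agent.TH.Cl (ParD NSD Irr1 Irr2 FldD TenD ExD SimD)
open scoped commutatorElement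

namespace Cases

variable {A : Type} [Ring A] [StarRing A] [Finite A] {F : FR A} {M N : Subgroup (RingAut A)}

/-- the reducible case -/
theorem red (ss : SS A) (hle : M ≤ F.Aut) (hD : ¬ FixD M) (hI : ¬ Irr M) : ParD F M ∨ NSD F M := by
  classical
  have := ss.nontrivial
  have hS : M ≤ SAut A := hle.trans F.Aut_le_SAut
  obtain ⟨R, hR, hR2⟩ : ∃ R : Ideal A, Inv M R ∧ ¬ Two R := by
    by_contra hcon
    exact hI fun R hR => not_not.1 fun h1 => hcon ⟨R, hR, h1⟩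
  have hT : ∀ x ∈ R ⊓ perp R, ∀ y ∈ R ⊓ perp R, x * star y = 0 := fun x hx y hy => hy.2 x hx.1
  have hTi : Inv M (R ⊓ perp R : Ideal A) := fun γ hγ x hx => ⟨hR γ hγ x hx.1, inv_perp hS hR γ hγ x hx.2⟩
  by_cases h0 : R ⊓ perp R = ⊥
  · obtain ⟨f, hf, hs, hi, h1⟩ := exists_symm_idem ss h0
    refine absurd ⟨f, fun e => hR2 fun x hx a => ?_, fun e => hR2 fun x _ a => ?_, hi, hs, fun γ hγ => ?_⟩ hD
    · rw [← h1 x hx, e, mul_zero, zero_mul]
      exact R.zero_mem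
    · rw [← mul_one (x * a), ← e]
      exact R.mul_mem_left _ hf
    · have h4 := congrArg γ (h1 _ (hR _ (inv_mem hγ) f hf))
      rw [map_mul, ra_apply_inv] at h4
      have h5 := congrArg star h4
      rw [star_mul, ← hS hγ, hs, h1 _ (hR γ hγ f hf)] at h5
      exact h5
  by_cases h1 : sing F _ hT = ⊥
  · refine Or.inr ⟨_, h0, hTi, hT, fun x hx hx' => ?_⟩
    have h2 : x ∈ sing F _ hT := ⟨hx, hx'⟩
    rwa [h1] at h2
  refine Or.inl ⟨_, h1, fun γ hγ x hx => ⟨hTi γ hγ x hx.1, ?_⟩, fun x hx y hy => hT x hx.1 y hy.1,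
    fun x hx => hx.2, fun h2 => ?_⟩
  · have h2 := F.L.sub_mem (F.map_mem (hS hγ) hx.2) (F.conj_mem (hle hγ).2 (γ x))
    convert h2 using 1
    rw [map_mul, map_mul, hS hγ]
    noncomm_ring
  · rcases ss.two_cases (I := sing F _ hT) h2 with h3 | h3 | ⟨ε, hε, h3⟩
    · exact h1 h3
    · have h4 : (1 : A) ∈ sing F _ hT := by rw [h3]; trivial
      simpa using hT 1 h4.1 1 h4.1
    · have h4 := ((h3 ε).2 hε.idem).1
      refine hR2 fun x hx a => ?_
      have h5 := h4.2 x hx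
      rw [hε.star_eq, mul_sub, mul_one, sub_eq_zero] at h5
      rw [h5, mul_assoc, ← hε.comm, ← mul_assoc]
      exact R.mul_mem_left _ h4.1

omit [Finite A] in
/-- without a fixed idempotent, invariant frames are permuted transitively -/
theorem trans_of (hD : ¬ FixD M) {D : Finset A} (h : Fr D) (hi : Inv M D) : ∀ e ∈ D, ∀ e' ∈ D, ∃ γ ∈ M, γ e = e' := by
  classical
  intro e he e' he'
  by_contra hcon
  let O : Finset A := D.filter fun x => ∃ γ ∈ M, γ e = x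
  have hO : ∀ x, x ∈ O ↔ x ∈ D ∧ ∃ γ ∈ M, γ e = x := fun x => Finset.mem_filter
  have h1 : ∀ x ∈ O, x * ∑ y ∈ O, y = x := fun x hx => by
    rw [Finset.mul_sum, Finset.sum_eq_single x (fun y hy e => h.orth x ((hO x).1 hx).1 y ((hO y).1 hy).1 e.symm)
      fun h => absurd hx h]
    exact h.idem x ((hO x).1 hx).1
  have h2 : ∀ γ ∈ M, ∀ x ∈ O, γ x ∈ O := fun γ hγ x hx => by
    obtain ⟨h3, δ, hδ, rfl⟩ := (hO x).1 hx
    exact (hO _).2 ⟨hi γ hγ _ h3, γ * δ, mul_mem hγ hδ, rfl⟩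
  refine hD ⟨∑ y ∈ O, y, fun h0 => h.ne e he ?_, fun h0 => h.ne e' he' ?_, ?_, ?_, fun γ hγ => ?_⟩
  · rw [← h1 e ((hO e).2 ⟨he, 1, one_mem _, rfl⟩), h0, mul_zero]
  · rw [← mul_one e', ← h0, Finset.mul_sum]
    exact Finset.sum_eq_zero fun y hy => h.orth e' he' y ((hO y).1 hy).1 fun e => hcon (e ▸ ((hO y).1 hy).2)
  · rw [Finset.sum_mul]
    exact Finset.sum_congr rfl h1
  · rw [star_sum]
    exact Finset.sum_congr rfl fun y hy => h.symm y ((hO y).1 hy).1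
  · rw [map_sum]
    exact Finset.sum_nbij' γ (fun x => γ⁻¹ x) (h2 γ hγ) (h2 _ (inv_mem hγ)) (fun x _ => ra_inv_apply γ x)
      (fun x _ => ra_apply_inv γ x) fun _ _ => rfl

section lft

omit [Finite A]

theorem lft_le : lft F N ≤ N.comap (cj A) ⊓ F.Iso := dS_le (N.comap (cj A) ⊓ F.Iso) 1

theorem exists_lft (hN : N ≤ F.PI) (hp : N ≤ ⁅N, N⁆) {s : RingAut A} (hs : s ∈ N) : ∃ u ∈ lft F N, cj A u = s := by
  have h1 : (N.comap (cj A) ⊓ F.Iso).map (cj A) = N := by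
    refine le_antisymm ?_ fun t ht => ?_
    · rintro _ ⟨u, hu, rfl⟩
      exact hu.1
    · obtain ⟨u, hu, rfl⟩ := hN ht
      exact ⟨u, ⟨ht, hu⟩, rfl⟩
  have h2 := hp hs
  rw [← h1, ← Subgroup.map_commutator] at h2
  exact h2

theorem um_mem_lft {γ : RingAut A} (hγ : γ ∈ F.Aut) (hn : ∀ x ∈ N, γ * x * γ⁻¹ ∈ N) {u : Aˣ} (hu : u ∈ lft F N) :
    um γ u ∈ lft F N := by
  have h1 : (N.comap (cj A) ⊓ F.Iso).map (um γ) ≤ N.comap (cj A) ⊓ F.Iso := by
    rintro _ ⟨v, hv, rfl⟩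
    exact ⟨Subgroup.mem_comap.2 (conj_cj γ v ▸ hn _ hv.1), FR.um_mem_Iso hγ hv.2⟩
  have h2 : (lft F N).map (um γ) ≤ lft F N := by
    rw [lft, Subgroup.map_commutator]
    exact Subgroup.commutator_mono h1 h1
  exact h2 ⟨u, hu, rfl⟩

/-- the ring generated by the perfect group of lifts -/
def A0 (F : FR A) (N : Subgroup (RingAut A)) : Subring A := Subring.closure ((fun u : Aˣ => (u : A)) '' lft F N)

theorem mem_A0 {u : Aˣ} (hu : u ∈ lft F N) : (u : A) ∈ A0 F N := Subring.subset_closure ⟨u, hu, rfl⟩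

theorem star_A0 : ∀ x ∈ A0 F N, star x ∈ A0 F N := by
  intro x hx
  induction hx using Subring.closure_induction with
  | mem x hx =>
    obtain ⟨u, hu, rfl⟩ := hx
    rw [← FR.Iso.inv_eq (lft_le hu).2]
    exact mem_A0 (inv_mem hu)
  | zero => rw [star_zero]; exact Subring.zero_mem _
  | one => rw [star_one]; exact Subring.one_mem _
  | add x y _ _ hx hy => rw [star_add]; exact Subring.add_mem _ hx hy
  | neg x _ hx => rw [star_neg]; exact Subring.neg_mem _ hx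
  | mul x y _ _ hx hy => rw [star_mul]; exact Subring.mul_mem _ hy hx

theorem inv_A0 (hle : M ≤ F.Aut) (hn : Nrm M N) : Inv M (A0 F N) := fun γ hγ =>
  (Subring.closure_le (t := (A0 F N).comap (γ : A →+* A))).2 (by
    rintro _ ⟨u, hu, rfl⟩
    exact mem_A0 (u := um γ u) (um_mem_lft (hle hγ) (hn γ hγ) hu))

theorem gen_A0 (hN : N ≤ F.PI) (hp : N ≤ ⁅N, N⁆) (htop : alg F N = ⊤) :
    Subring.closure ((Subring.center A : Set A) ∪ A0 F N) = ⊤ := by
  rw [eq_top_iff, ← htop]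
  refine alg_le (fun x hx => Subring.subset_closure (Or.inl hx)) fun u _ hu => ?_
  obtain ⟨w, hw, e⟩ := exists_lft hN hp hu
  obtain ⟨z, hz, rfl⟩ := cj_eq_iff.1 e.symm
  exact Subring.mul_mem _ (Subring.subset_closure (Or.inr (mem_A0 hw))) (Subring.subset_closure (Or.inl hz))

theorem irr_of_alg (htop : alg F N = ⊤) : Irr N := by
  intro R hR
  let T : Subring A :=
    { carrier := {a | ∀ x ∈ R, x * a ∈ R}
      mul_mem' := fun ha hb x hx => by rw [← mul_assoc]; exact hb _ (ha x hx)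
      one_mem' := fun x hx => by rwa [mul_one]
      add_mem' := fun ha hb x hx => by rw [mul_add]; exact R.add_mem (ha x hx) (hb x hx)
      zero_mem' := fun x _ => by rw [mul_zero]; exact R.zero_mem
      neg_mem' := fun ha x hx => by rw [mul_neg]; exact R.neg_mem (ha x hx) }
  have h1 : alg F N ≤ T := alg_le (fun a ha x hx => by rw [cen_comm ha]; exact R.mul_mem_left _ hx)
    fun u _ hu x hx => by
      have h3 := R.mul_mem_left u (hR (cj A u⁻¹) (by rw [map_inv]; exact inv_mem hu) x hx)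
      rw [cj_apply] at h3
      simpa [← mul_assoc] using h3
  exact fun x hx a => h1 (htop ▸ Subring.mem_top a) x hx

end lft

/-- the normaliser of an irreducible group of automorphisms of a form preserves the form -/
theorem mem_Aut_of_norm (ss : SS A) (hN : N ≤ F.Aut) (hI : Irr N) {γ : RingAut A} (hγ : γ ∈ SAut A)
    (hn : ∀ s ∈ N, γ⁻¹ * s * γ ∈ N) : γ ∈ F.Aut := by
  refine ⟨hγ, FR.mem_L_of_inv ss (hN.trans F.Aut_le_SAut) hI ?_ fun s hs => ?_⟩
  · have h1 : star F.l = 1 - F.l := eq_sub_of_add_eq' F.l_add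
    rw [star_sub, ← hγ, h1, map_sub, map_one]
    abel
  · have h1 := F.L.sub_mem (F.map_mem hγ (hN (hn s hs)).2) (hN hs).2
    rw [map_sub, ra_mul, ra_mul, ra_apply_inv] at h1
    convert h1 using 1
    rw [map_sub]
    abel

variable {H : Subgroup (RingAut A)} {p : ℕ}

/-- the almost simple case -/
theorem sim (c : Ctx F H p) (hI : Irr2 H) (hN : N ≤ H ⊓ F.S) (hn : Nrm H N) (hs : IsSimpleGroup N)
    (hc : ¬ IsMulCommutative N) (htop : alg F N = ⊤) : SubD F H ∨ QuadD F H ∨ Res F H N := by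
  have : Finite (RingAut A) := Finite.of_injective (fun γ : RingAut A => (γ : A → A)) DFunLike.coe_injective
  have hS : SimD F H := ⟨hI, N, hN, hn, hs, hc, htop⟩
  have hNP : N ≤ F.PI := (hN.trans inf_le_right).trans F.S_le_PI
  have hp := perfect_of_simple hs hc
  have hIN := irr_of_alg htop
  have hgen := gen_A0 hNP hp htop
  have hinv := inv_A0 c.le hn
  by_cases h1 : A0 F N ≠ ⊤
  · obtain ⟨φ₀, h2, h3, h4⟩ := exists_aut c.ss c.prime c.char
      (ss_of_inv c.ss c.le_SAut hI.1.1 hI.1.2 star_A0 hinv) hgen h1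
    obtain ⟨r, hr, h5⟩ := Nat.exists_prime_and_dvd (n := orderOf φ₀) (by rwa [Ne, orderOf_eq_one_iff])
    have h6 := orderOf_pow_orderOf_div (orderOf_pos φ₀).ne' h5
    set φ := φ₀ ^ (orderOf φ₀ / r)
    have hφ : φ ∈ SAut A := pow_mem h2 _
    have hf : φ ∈ DS.Cl.Fix (A0 F N : Set A) := pow_mem (show φ₀ ∈ DS.Cl.Fix (A0 F N : Set A) from h4) _
    have hcomm : ∀ γ ∈ H, γ * φ = φ * γ := fun γ hγ => by
      rw [← commutatorElement_eq_one_iff_mul_comm]
      refine eq_one_of_fix hgen (c.ss.commutator_SAut (Subgroup.commutator_mem_commutator (c.le_SAut hγ) hφ))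
        fun x hx => ?_
      rw [commutatorElement_def, ra_mul, ra_mul, ra_mul, (inv_mem hf) x hx, hf _ (hinv _ (inv_mem hγ) x hx), ra_apply_inv]
    refine Or.inl ⟨hS, φ, mem_Aut_of_norm c.ss (hNP.trans F.PI_le_Aut) hIN hφ fun s hs => ?_, fun h => ?_, h6 ▸ hr, hcomm⟩
    · rwa [mul_assoc, hcomm s (hN hs).1, inv_mul_cancel_left]
    · rw [eq_one_of_fix hgen h hf, orderOf_one] at h6
      exact hr.one_lt.ne h6
  by_cases h2 : ∀ l : A, l + star l = 1 → (∀ u ∈ lft F N, (u : A) * l * star (u : A) - l ∈ Lmin A) → F.L = Lmin A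
  · exact Or.inr (Or.inr ⟨hN, hn, hs, hc, not_not.1 h1, h2⟩)
  push Not at h2
  obtain ⟨l, h2, h3, h4⟩ := h2
  refine Or.inr (Or.inl ⟨hS, h4, l, h2, fun γ hγ => ?_⟩)
  refine (mem_Aut_of_norm (F := ⟨l, Lmin A, h2, Or.inl rfl⟩) c.ss (fun s hs => ?_) hIN (c.le_SAut hγ)
    fun s hs => by simpa using hn _ (inv_mem hγ) s hs).2
  obtain ⟨u, hu, rfl⟩ := exists_lft hNP hp hs
  exact ⟨c.le_SAut (hN hs).1, by rw [FR.Iso.cj_apply (lft_le hu).2]; exact h3 u hu⟩

/-- the families of the socle -/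
theorem res (c : Ctx F H p) (hI : Irr2 H) (hT : ¬ TenD H) (h : Res F H N) :
    ResD qDef F H ∨ ResD qAlt F H ∨ ResD qSpor F H ∨ ResD qCross F H := by
  have : Finite (RingAut A) := Finite.of_injective (fun γ : RingAut A => (γ : A → A)) DFunLike.coe_injective
  have := h.simple
  by_cases hl : IsLieTypeChar (ringChar A) N
  · exact Or.inl ⟨hI, hT, N, h, hl⟩
  by_cases ha : IsAlternating N
  · exact Or.inr (Or.inl ⟨hI, hT, N, h, hl, ha⟩)
  have hc : ¬ IsPrimeCyclic N := fun h1 => by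
    have : Fact (Nat.card N).Prime := ⟨h1⟩
    have := isCyclic_of_prime_card (α := N) rfl
    exact h.noncomm inferInstance
  rcases H912.Known.known_split (c.cf N) hc with h1 | h1 | h1 | h1
  · exact absurd h1 ha
  · exact Or.inr (Or.inr (Or.inr ⟨hI, hT, N, h, hl, ha, h1⟩))
  · exact Or.inr (Or.inr (Or.inl ⟨hI, hT, N, h, hl, Or.inr h1⟩))
  · exact Or.inr (Or.inr (Or.inl ⟨hI, hT, N, h, hl, Or.inl h1⟩))

end Cases

open Cases in
/-- **[Cases]** -/
theorem boxCases : BoxCases := by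
  intro A _ _ _ F H p c
  have : Finite (RingAut A) := Finite.of_injective (fun γ : RingAut A => (γ : A → A)) DFunLike.coe_injective
  have hle := c.le
  by_cases hX : FixD H
  · exact Or.inr (Or.inr (Or.inl hX))
  by_cases hI : ¬ Irr H
  · rcases red c.ss hle hX hI with h | h
    · exact Or.inl h
    · exact Or.inr (Or.inl h)
  refine Or.inr (Or.inr (Or.inr ?_))
  by_cases hD : ∃ D : Finset A, Fr D ∧ Inv H D
  · obtain ⟨D, h1, h2⟩ := hD
    exact Or.inl ⟨not_not.1 hI, hX, D, h1, h2, trans_of hX h1 h2⟩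
  replace hI : Irr1 H := ⟨not_not.1 hI, fun D h1 h2 => hD ⟨D, h1, h2⟩⟩
  refine Or.inr ?_
  by_cases hF : ∃ Z : Subring A, ComSub Z ∧ ¬ Z ≤ Subring.center A ∧ Inv H Z
  · exact Or.inl ⟨hI, hF⟩
  have hI2 : Irr2 H := ⟨hI, fun Z h1 h2 => not_not.1 fun h3 => hF ⟨Z, h1, h3, h2⟩⟩
  refine Or.inr ?_
  by_cases hT : TenD H
  · exact Or.inl hT
  refine Or.inr ?_
  obtain ⟨N, hN, hmin⟩ := exists_minN (M := H) (K := H ⊓ F.S) (fun γ hγ s hs => c.conj_inf hγ hs) c.inf_ne_bot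
  have hNP : N ≤ F.PI := (hN.trans inf_le_right).trans F.S_le_PI
  have hB : Inv H (alg F N) := fun γ hγ => apply_mem_alg (hle hγ) (hmin.nrm γ hγ)
  have hZ : cenOf (alg F N) ≤ Subring.center A := hI2.2 _
    ⟨fun x hx => ⟨cen_le_alg hx, fun y _ => cen_comm hx y⟩,
      fun x hx => ⟨star_alg x hx.1, star_centralizer star_alg x hx.2⟩, fun x hx y hy => hy.2 x hx.1⟩ (inv_cenOf hB)
  have htop : alg F N = ⊤ := not_not.1 fun htop =>
    hT (TH.Cl.Cases.ten_central c.ss hle hI2 cen_le_alg (alg_not_le hNP hmin.ne) star_alg hB hZ htop)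
  by_cases hc : ∀ x ∈ N, ∀ y ∈ N, x * y = y * x
  · exact Or.inl ⟨hI2, N, hN, hmin, hc, htop⟩
  obtain ⟨𝓣, h𝓣⟩ := hmin.exists_comp hc
  have h1 : N ∈ 𝓣 := not_not.1 fun h1 => hT (TH.Cl.Cases.ten_comp hle hI2 hNP hmin.ne htop h𝓣 h1)
  rcases sim c hI2 hN hmin.nrm (h𝓣.simple N h1) (h𝓣.noncomm N h1) htop with h | h | h
  · exact Or.inr (Or.inl h)
  · exact Or.inr (Or.inr (Or.inl h))
  · exact Or.inr (Or.inr (Or.inr (res c hI2 hT h)))

end Cfsg.Agent.N2C
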